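import Groth.Agent.FinFr.K42.PushFin
import Groth.Agent.Etdl.H521.CardH1
import Groth.Agent.Sga5.H650.ConstCount
import Groth.Agent.Sga4h.X144Alg

/-!
# The order of the top cohomology group with compact supports
-/

set_option autoImplicit false
universe u
open CategoryTheory CategoryTheory.Limits AlgebraicGeometry Opposite CategoryTheory.Abelian

namespace K42.FinFr

open Groth.Agent.Etrest.HPost

theorem nsmul_H {X : Scheme.{u}} {n : ℕ} {F : EtCoh.Ab X} (h : EtCoh.KilledBy n F) (q : ℕ)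
    (x : EtCoh.H X F q) : n • x = 0 := by
  rw [Groth.Agent.Sga4B.ShriekTools.killedBy_iff] at h
  have h1 : ∀ m : ℕ, x.comp (Ext.mk₀ (m • 𝟙 F)) (add_zero q) = m • x := by
    intro m
    induction m with
    | zero => rw [zero_smul, zero_smul, Ext.mk₀_zero, Ext.comp_zero]
    | succ m ih => rw [succ_nsmul, succ_nsmul, Ext.mk₀_add, Ext.comp_add, ih, Ext.comp_mk₀_id]
  rw [← h1, h, Ext.mk₀_zero, Ext.comp_zero]

/-- `|H^{2d}_c(X, ℤ/n)| = n` for `X` smooth of relative dimension `d`, connected, over an algebraically closed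
field. -/
theorem natCard_top_geom {Ω : Type u} [Field Ω] [IsAlgClosed Ω] {X P : Scheme.{u}}
    (a : P ⟶ Spec (CommRingCat.of Ω)) [IsProper a] (j : X ⟶ P) [IsOpenImmersion j] (d : ℕ)
    [SmoothOfRelativeDimension d (j ≫ a)] [ConnectedSpace X] (n : ℕ) (hn : (n : Ω) ≠ 0) :
    Nat.card (EtCoh.H P ((EtShriek.extZero j).obj (EtCoh.const X (ZMod n))) (2 * d)) = n := by
  have hn0 : n ≠ 0 := fun h => hn (by rw [h, Nat.cast_zero])
  have : NeZero n := ⟨hn0⟩
  have hk : EtCoh.KilledBy n (EtCoh.const X (ZMod n)) :=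
    Groth.Agent.Etrest.ConstBasic.killedBy_const X (ZMod n) n fun m => by simp
  have hfin : Finite (EtCoh.H P ((EtShriek.extZero j).obj (EtCoh.const X (ZMod n))) (2 * d)) :=
    Groth.Agent.S3111.result a j n (Nat.pos_of_ne_zero hn0) _
      (Groth.Agent.Etrest.ConstBasic.isConstructible_const X (ZMod n)) hk (2 * d)
  obtain ⟨e⟩ := Groth.Agent.Sga4B.DualFinal.nonempty_equiv a j d n (Nat.pos_of_ne_zero hn0)
    (Groth.Agent.Sga4B.PkgB.pkg Ω n hn d) (2 * d) le_rfl
  have h1 := Nat.card_congr e.toEquiv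
  rw [Groth.Agent.Sga4h.X144Alg.card_hom n fun x => nsmul_H
    (Groth.Agent.Sga4B.ShriekTools.killedBy_extZero j n _ hk) _ x] at h1
  rw [← h1]
  have h2 : ∀ m : ℕ, m = 0 → Nat.card (EtCoh.H X (EtCoh.const X (ZMod n)) m) = n := by
    rintro m rfl
    rw [Groth.Agent.Sga5.H650.ConstCount.card_H0_const X (ZMod n), Nat.card_zmod]
  exact h2 _ (Nat.sub_self _)

variable {k : Type u} [Field k] {K : Type u} [Field K] [Algebra k K]

/-- `π⁻¹ j_! ℤ/n ≅ (j_K)_! ℤ/n`. -/
theorem nonempty_pull_const_iso {X₀ P₀ : Scheme.{u}} {b : P₀ ⟶ Spec (CommRingCat.of k)}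
    (a : X₀ ⟶ Spec (CommRingCat.of k)) (j : X₀ ⟶ P₀) [IsOpenImmersion j] (w : j ≫ b = a)
    [IsOpenImmersion (FinFr.extHom K a j w)] (M : Type) [AddCommGroup M] :
    Nonempty ((EtCoh.pull (FinFr.extπ K b)).obj ((EtShriek.extZero j).obj (EtCoh.const X₀ M)) ≅
      (EtShriek.extZero (FinFr.extHom K a j w)).obj (EtCoh.const (FinFr.ext K a) M)) :=
  ⟨((Groth.Agent.Sga4h.H407.IC.extZeroExt K a j w).symm.app _) ≪≫
    (EtShriek.extZero _).mapIso (EtCore.pullConst (FinFr.extπ K a) M)⟩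

theorem natCard_top [IsAlgClosed K] {X₀ P₀ : Scheme.{u}} (b : P₀ ⟶ Spec (CommRingCat.of k))
    [IsProper b] (a : X₀ ⟶ Spec (CommRingCat.of k)) (j : X₀ ⟶ P₀) [IsOpenImmersion j]
    (w : j ≫ b = a) (d : ℕ) [SmoothOfRelativeDimension d a] [ConnectedSpace (FinFr.ext K a)]
    (n : ℕ) (hn : (n : k) ≠ 0) :
    Nat.card (EtCoh.H (FinFr.ext K b) ((EtCoh.pull (FinFr.extπ K b)).obj
      ((EtShriek.extZero j).obj (EtCoh.const X₀ (ZMod n)))) (2 * d)) = n := by
  have hJo : IsOpenImmersion (FinFr.extHom K a j w) :=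
    Groth.Agent.Sga4h.H407.ExtGeom.isOpenImmersion_extHom K a j w
  obtain ⟨e⟩ := nonempty_pull_const_iso (K := K) a j w (ZMod n)
  have hsm : SmoothOfRelativeDimension d (FinFr.extHom K a j w ≫ FinFr.extStr K b) := by
    rw [Groth.Agent.Sga4h.H407.ExtGeom.extHom_snd K a j w]
    exact (smoothOfRelativeDimension_isStableUnderBaseChange d).of_isPullback
      (IsPullback.of_hasPullback a (FinFr.specι k K)) ‹_›
  have hnK : (n : K) ≠ 0 := by
    intro h
    apply hn
    apply (algebraMap k K).injective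
    rw [map_natCast, map_zero, h]
  rw [Nat.card_congr (Equiv.ofBijective _ (post_bijective e.hom (2 * d)))]
  exact natCard_top_geom (FinFr.extStr K b) (FinFr.extHom K a j w) d n hnK

end K42.FinFr
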