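import Groth.Agent.FlatB.AffSpaceSmooth
import Groth.Agent.Sga4B.EtCoords
import Groth.Agent.Sga4B.SmoothNormal
import Groth.Agent.Sga4h.H912.NormCover
import Groth.Agent.Ega1.GenPts
import Groth.Agent.S0409

/-!
# A smooth scheme over a field is generically finite étale over affine space
-/

set_option autoImplicit false
universe u
open CategoryTheory CategoryTheory.Limits AlgebraicGeometry Topology TopologicalSpace

namespace K42.FinFr

/-- A connected smooth scheme over a field is integral. -/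
theorem isIntegral_of_connected {k : Type u} [Field k] {X : Scheme.{u}} (f : X ⟶ Spec (CommRingCat.of k))
    [Smooth f] [ConnectedSpace X] : IsIntegral X := by
  have h1 : IsLocallyNoetherian X := LocallyOfFiniteType.isLocallyNoetherian f
  rw [Groth.Agent.Ega1.GenPts.isIntegral_iff]
  exact ⟨inferInstance, fun x => (Groth.Agent.Sga4B.SmoothNormal.isNormalScheme_of_smooth f x).1⟩

theorem locallyQuasiFinite_of_etale {X Y : Scheme.{u}} (f : X ⟶ Y) [AlgebraicGeometry.Etale f] :
    LocallyQuasiFinite f where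
  quasiFinite_appLE {U} hU {V} hV e := by
    have h := HasRingHomProperty.appLE @AlgebraicGeometry.Etale f ‹_› ⟨U, hU⟩ ⟨V, hV⟩ e
    algebraize [(f.appLE U V e).hom]
    change Algebra.QuasiFinite Γ(Y, U) Γ(X, V)
    infer_instance

/-- `𝔸^d` in two guises. -/
theorem exists_anIso (k : Type u) [Field k] (d : ℕ) :
    ∃ e : 𝔸(ULift.{u} (Fin d); Spec (CommRingCat.of k)) ≅
      Spec (CommRingCat.of (MvPolynomial (Fin d) k)),
      e.hom ≫ Spec.map (CommRingCat.ofHom (algebraMap k (MvPolynomial (Fin d) k))) =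
        (𝔸(ULift.{u} (Fin d); Spec (CommRingCat.of k)) ↘ Spec (CommRingCat.of k)) := by
  let r : MvPolynomial (Fin d) k ≃ₐ[k] MvPolynomial (ULift.{u} (Fin d)) k :=
    MvPolynomial.renameEquiv k Equiv.ulift.symm
  refine ⟨AffineSpace.SpecIso _ _ ≪≫ Scheme.Spec.mapIso (RingEquiv.toCommRingCatIso r.toRingEquiv).op,
    ?_⟩
  have h1 := AffineSpace.SpecIso_inv_over (n := ULift.{u} (Fin d)) (CommRingCat.of k)
  have h2 : (Scheme.Spec.mapIso (RingEquiv.toCommRingCatIso r.toRingEquiv).op).hom ≫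
      Spec.map (CommRingCat.ofHom (algebraMap k (MvPolynomial (Fin d) k))) =
      Spec.map (CommRingCat.ofHom MvPolynomial.C) := by
    change Spec.map _ ≫ Spec.map _ = _
    rw [← Spec.map_comp]
    congr 1
    apply CommRingCat.hom_ext
    apply RingHom.ext
    intro x
    exact r.commutes x
  rw [Iso.trans_hom, Category.assoc, h2, ← h1, Iso.hom_inv_id_assoc]

theorem exists_chart {k : Type u} [Field k] {X₀ : Scheme.{u}} (a : X₀ ⟶ Spec (CommRingCat.of k))
    (d : ℕ) [SmoothOfRelativeDimension d a] [Nonempty X₀] :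
    ∃ (V₀ U₀ : Scheme.{u}) (v : V₀ ⟶ Spec (CommRingCat.of (MvPolynomial (Fin d) k)))
      (u : U₀ ⟶ X₀) (π : U₀ ⟶ V₀), IsOpenImmersion v ∧ IsOpenImmersion u ∧ IsFinite π ∧ Etale π ∧
      Surjective π ∧ Nonempty U₀ ∧
      π ≫ v ≫ Spec.map (CommRingCat.ofHom (algebraMap k (MvPolynomial (Fin d) k))) = u ≫ a := by
  obtain ⟨V, w, hVa, hxV, -, hw, hwc⟩ := Groth.Agent.Sga4B.EtCoords.exists_etale_affineSpace a d
    (Classical.arbitrary X₀) ⊤ trivial
  obtain ⟨e, he⟩ := exists_anIso k d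
  have : IsAffine V.toScheme := hVa
  let f : V.toScheme ⟶ Spec (CommRingCat.of (MvPolynomial (Fin d) k)) := w ≫ e.hom
  have hf : f ≫ Spec.map (CommRingCat.ofHom (algebraMap k (MvPolynomial (Fin d) k))) = V.ι ≫ a := by
    rw [Category.assoc, he, hwc]
  have hfe : Etale f := inferInstance
  have hlq : LocallyQuasiFinite f := locallyQuasiFinite_of_etale f
  obtain ⟨W, hWd, hWf⟩ := Groth.Agent.S0409.result f
  have hVne : Nonempty V.toScheme := ⟨⟨_, hxV⟩⟩
  have hne : Nonempty ↥(f ⁻¹ᵁ W).toScheme := by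
    obtain ⟨y, ⟨x, hx⟩, hy2⟩ := hWd.inter_open_nonempty _ f.isOpenMap.isOpen_range
      (Set.range_nonempty _)
    refine ⟨⟨x, ?_⟩⟩
    change f x ∈ W
    rw [hx]
    exact hy2
  have hWne : Nonempty W.toScheme := ⟨(f ∣_ W) (Classical.arbitrary _)⟩
  have hWirr : IrreducibleSpace W.toScheme := W.ι.isOpenEmbedding.irreducibleSpace
  refine ⟨W.toScheme, (f ⁻¹ᵁ W).toScheme, W.ι, (f ⁻¹ᵁ W).ι ≫ V.ι, f ∣_ W, inferInstance,
    inferInstance, hWf, inferInstance, ?_, hne, ?_⟩
  · constructor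
    have h1 : IsClopen (Set.range (f ∣_ W)) :=
      ⟨(f ∣_ W).isClosedMap.isClosed_range, (f ∣_ W).isOpenMap.isOpen_range⟩
    exact Set.range_eq_univ.1 (h1.eq_univ (Set.range_nonempty _))
  · rw [morphismRestrict_ι_assoc, hf, Category.assoc]

end K42.FinFr
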