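import Groth.Prelude.Def_FinFr
import Groth.Agent.Variety.K418.GalTop
import Groth.Agent.VarietyB.BaseExt4
import Groth.Agent.S7621
import Mathlib.FieldTheory.Finite.GaloisField

/-!
# Clopen subsets of `X₀ ⊗ K` stable under Frobenius
-/

set_option autoImplicit false
universe u
open CategoryTheory CategoryTheory.Limits AlgebraicGeometry Opposite Topology TopologicalSpace

namespace K42.FinFr

/-- On a finite extension of `k` inside `K` every automorphism of `K/k` is a power of the Frobenius. -/
theorem exists_pow {k : Type u} [Field k] [Fintype k] {K : Type u} [Field K] [Algebra k K]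
    [Algebra.IsAlgebraic k K] (E : IntermediateField k K) [FiniteDimensional k E] (τ : K ≃ₐ[k] K) :
    ∃ n : ℕ, ∀ x ∈ E, τ x = (FiniteField.frobeniusAlgEquivOfAlgebraic k K ^ n) x := by
  have hfin : Finite E := Module.finite_of_finite k
  obtain ⟨n, hn⟩ := (FiniteField.bijective_frobeniusAlgEquivOfAlgebraic_pow k E).2 (τ.restrictNormal E)
  have h1 : ∀ (m : ℕ) (x : E), (((FiniteField.frobeniusAlgEquivOfAlgebraic k E ^ m) x : E) : K) =
      (FiniteField.frobeniusAlgEquivOfAlgebraic k K ^ m) (x : K) := by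
    intro m
    induction m with
    | zero => intro x; rfl
    | succ m ih =>
      intro x
      rw [pow_succ, pow_succ, AlgEquiv.mul_apply, AlgEquiv.mul_apply, ih]
      congr 1
  refine ⟨n.1, fun x hx => ?_⟩
  have h2 := τ.restrictNormal_commutes E ⟨x, hx⟩
  rw [← hn] at h2
  exact h2.symm.trans (h1 _ _)

variable {k : Type u} [Field k] [Fintype k] {K : Type u} [Field K] [Algebra k K]
  [Algebra.IsAlgebraic k K] [IsGalois k K] {X : Scheme.{u}} [X.Over (Spec (CommRingCat.of k))]

theorem clopen_aux [CompactSpace ↥(Curv2.bc k X K)] [ConnectedSpace X]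
    (C : Set ↥(Curv2.bc k X K)) (hC : IsClopen C)
    (hinv : Curv2.galAct k X K (FiniteField.frobeniusAlgEquivOfAlgebraic k K) '' C = C)
    (hne : C.Nonempty) : C = Set.univ := by
  obtain ⟨E, hE, h1⟩ := Groth.Agent.S7621.result k K X C hC.isOpen hC.isClosed.isCompact
  have hcomp : ∀ σ τ : K ≃ₐ[k] K, Curv2.galAct k X K (σ * τ) '' C =
      Curv2.galAct k X K τ '' (Curv2.galAct k X K σ '' C) := by
    intro σ τ
    rw [← Groth.Agent.VarietyB.BaseExt4.galAct_comp, Set.image_image]
    rfl
  have h2 : ∀ n : ℕ, Curv2.galAct k X K (FiniteField.frobeniusAlgEquivOfAlgebraic k K ^ n) '' C = C := by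
    intro n
    induction n with
    | zero =>
      refine h1 _ fun a _ => ?_
      rw [pow_zero]
      rfl
    | succ n ih => rw [pow_succ, hcomp, ih, hinv]
  have h3 : ∀ τ : K ≃ₐ[k] K, Curv2.galAct k X K τ '' C = C := by
    intro τ
    obtain ⟨n, hn⟩ := exists_pow E τ
    have h5 : τ = (FiniteField.frobeniusAlgEquivOfAlgebraic k K ^ n) *
        ((FiniteField.frobeniusAlgEquivOfAlgebraic k K ^ n)⁻¹ * τ) := by
      rw [mul_inv_cancel_left]
    rw [h5, hcomp, h2]
    refine h1 _ fun a ha => ?_
    rw [AlgEquiv.mul_apply, hn a ha, ← AlgEquiv.mul_apply, inv_mul_cancel]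
    rfl
  have h4 := K418.GalTop.preimage_image_eq k K X C h3
  rw [K418.GalTop.image_eq_univ_of_isClopen k K X C hC hne, Set.preimage_univ] at h4
  exact h4.symm

end K42.FinFr
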