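import Groth.Agent.FinFr.K42.Eg

/-!
# Scalars of Frobenius and direct images along finite morphisms
-/

set_option autoImplicit false
universe u
open CategoryTheory CategoryTheory.Limits AlgebraicGeometry Opposite CategoryTheory.Abelian

namespace K42.FinFr

open Groth.Agent.Etcore.PullCoh Groth.Agent.Sga4B.ExtCmp Groth.Agent.EtpbcB.HRel
  Groth.Agent.Etrest.HPost Groth.Agent.Sga4B.HpullSquare Groth.Agent.Sga4h.H513.LocEdge

/-- Degenerate Leray for a finite morphism: `H^n(Y, f_* G) → H^n(X, G)` is bijective. -/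
theorem bijective_counit_Hpull_of_finite {X Y : Scheme.{u}} (f : X ⟶ Y) [IsFinite f]
    [PreservesFiniteLimits (EtCoh.pull f)] (G : EtCoh.Ab X) (n : ℕ) :
    Function.Bijective fun x : EtCoh.H Y ((EtCoh.push f).obj G) n =>
      (post ((EtCoh.pullPushAdj f).counit.app G) n (EtCore.Hpull f _ n x) : EtCoh.H X G n) := by
  have h1 := Groth.Agent.Etrest.HpullAcyc.cmp_counit_bijective.{u + 1, u + 1} (EtCoh.pull f)
    (EtCoh.pullPushAdj f) (EtCoh.const Y ℤ) n G (fun q hq => Groth.Agent.S0071.result f G q hq)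
  let P : Ext ((EtCoh.pull f).obj (EtCoh.const Y ℤ)) G n → Ext (EtCoh.const X ℤ) G n :=
    fun e => (Ext.mk₀ (EtCore.pullConst f ℤ).inv).comp e (zero_add n)
  have h3 : Function.Bijective P := by
    constructor
    · intro a b h
      have := congrArg (fun e => (Ext.mk₀ (EtCore.pullConst f ℤ).hom).comp e (zero_add n)) h
      simpa only [P, Ext.mk₀_comp_mk₀_assoc, Iso.hom_inv_id, Ext.mk₀_id_comp] using this
    · intro a
      refine ⟨(Ext.mk₀ (EtCore.pullConst f ℤ).hom).comp a (zero_add n), ?_⟩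
      simp only [P, Ext.mk₀_comp_mk₀_assoc, Iso.inv_hom_id]
      exact Ext.mk₀_id_comp _
  have h4 : (fun x : EtCoh.H Y ((EtCoh.push f).obj G) n =>
      (post ((EtCoh.pullPushAdj f).counit.app G) n (EtCore.Hpull f _ n x) : EtCoh.H X G n)) =
      P ∘ ⇑(Groth.Agent.Etbase.ExtCompare.cmp.{u + 1, u + 1} (F := G) (EtCoh.pull f)
      (EtCoh.const Y ℤ) ((EtCoh.pullPushAdj f).counit.app G) n) := by
    funext x
    rw [Function.comp_apply, Groth.Agent.Etbase.ExtCompare.cmp_apply, post_apply]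
    exact Ext.comp_assoc_of_third_deg_zero _ _ _ _
  rw [h4]
  exact h3.comp h1

theorem post_bijective {X : Scheme.{u}} {F G : EtCoh.Ab X} (φ : F ⟶ G) [IsIso φ] (n : ℕ) :
    Function.Bijective (post φ n) := by
  refine Function.bijective_iff_has_inverse.2 ⟨post (inv φ) n, fun x => ?_, fun x => ?_⟩
  · rw [post_comp, IsIso.hom_inv_id, post_id]
  · rw [post_comp, IsIso.inv_hom_id, post_id]

section edge

variable {X Y X' Y' : Scheme.{u}} (f : X ⟶ Y) (g : Y' ⟶ Y) (f' : X' ⟶ Y') (g' : X' ⟶ X)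
  (f₀ : X' ⟶ Y) (w₁ : f' ≫ g = f₀) (w₂ : g' ≫ f = f₀)

theorem edge_bijective_of_finite (h : IsPullback g' f' f g) [IsFinite f] [IsFinite f']
    (F : EtCoh.Ab X) (n : ℕ) : Function.Bijective (edge f g f' g' f₀ w₁ w₂ F n) := by
  have hi : IsIso (EtCoh.baseChange0 f g f' g' h.w F) := Groth.Agent.S0621.result f g f' g' h F
  have h1 : (edge f g f' g' f₀ w₁ w₂ F n : _ → _) =
      (fun x => post ((EtCoh.pullPushAdj f').counit.app ((EtCoh.pull g').obj F)) n
        (EtCore.Hpull f' _ n x)) ∘ (post (EtCoh.baseChange0 f g f' g' h.w F) n) := by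
    funext x
    exact edge_eq f g f' g' f₀ w₁ w₂ h.w F n x
  rw [h1]
  exact (bijective_counit_Hpull_of_finite f' _ n).comp (post_bijective _ n)

end edge

variable {k : Type u} [Field k] {K : Type u} [Field K] [Algebra k K] [Fact FinFr.PullExact.{u}]

variable {P₁ P₂ : Scheme.{u}} {b₁ : P₁ ⟶ Spec (CommRingCat.of k)}
  {b₂ : P₂ ⟶ Spec (CommRingCat.of k)} (ν : P₁ ⟶ P₂) [IsFinite ν] (w : ν ≫ b₂ = b₁)

include w

variable (K) in
/-- `H^n(P₂ ⊗ K, π⁻¹ ν_* G) ≃ H^n(P₁ ⊗ K, π⁻¹ G)`, compatible with transport of structure. -/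
theorem exists_pushEquiv (G : EtCoh.Ab P₁) (n : ℕ) :
    ∃ e : EtCoh.H (FinFr.ext K b₂) ((EtCoh.pull (FinFr.extπ K b₂)).obj ((EtCoh.push ν).obj G)) n ≃+
        EtCoh.H (FinFr.ext K b₁) ((EtCoh.pull (FinFr.extπ K b₁)).obj G) n,
      ∀ (σ : K ≃ₐ[k] K) (x), e (FinFr.galH b₂ σ ((EtCoh.push ν).obj G) n x) =
        FinFr.galH b₁ σ G n (e x) := by
  have hsq := (Groth.Agent.Sga4h.H407.ExtGeom.isPullback_extHom K b₁ ν w).flip
  have hfin : IsFinite (FinFr.extHom K b₁ ν w) :=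
    MorphismProperty.of_isPullback (P := @IsFinite) hsq inferInstance
  refine ⟨AddEquiv.ofBijective (edge ν (FinFr.extπ K b₂) (FinFr.extHom K b₁ ν w) (FinFr.extπ K b₁)
    (FinFr.extπ K b₁ ≫ ν) (FinFr.extHom_fst b₁ ν w) rfl G n)
    (edge_bijective_of_finite _ _ _ _ _ _ _ hsq G n), fun σ x => ?_⟩
  exact edge_via ν (FinFr.extπ K b₂) (FinFr.extHom K b₁ ν w) (FinFr.extπ K b₁)
    (FinFr.extπ K b₁ ≫ ν) (FinFr.extHom_fst b₁ ν w) rfl (FinFr.galAct_fst b₂ σ)
    (FinFr.galAct_fst b₁ σ) (Groth.Agent.Sga4h.H407.IC.galAct_extHom K ν w σ) G n x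

theorem eg_push_iff (σ : K ≃ₐ[k] K) (G : EtCoh.Ab P₁) (n c : ℕ) :
    Eg b₂ σ ((EtCoh.push ν).obj G) n c ↔ Eg b₁ σ G n c := by
  obtain ⟨e, he⟩ := exists_pushEquiv K ν w G n
  constructor
  · intro h y
    obtain ⟨x, rfl⟩ := e.surjective y
    rw [← he, h x, map_nsmul]
  · intro h x
    apply e.injective
    rw [he, h, map_nsmul]

end K42.FinFr
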