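import Groth.Agent.FinFr.K42.Supp
import Groth.Agent.FinFr.K42.PushFin

/-!
# `H^{2d}_c` of a dense open subscheme surjects
-/

set_option autoImplicit false
universe u
open CategoryTheory CategoryTheory.Limits AlgebraicGeometry Opposite CategoryTheory.Abelian Topology
  TopologicalSpace

namespace K42.FinFr

open Groth.Agent.Etcore Groth.Agent.Etcore.ShriekUnique Groth.Agent.Etcore.OpenClosed
  Groth.Agent.Etcore.Stalks Groth.Agent.Etcore.ShriekBasic Groth.Agent.Sga4h.H928.ClosedMV
  Groth.Agent.Sga4h.H928.ImmVan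

theorem nonempty_ext {k : Type u} [Field k] (K : Type u) [Field K] [Algebra k K] {U₀ : Scheme.{u}}
    (a : U₀ ⟶ Spec (CommRingCat.of k)) [Nonempty U₀] : Nonempty ↥(FinFr.ext K a) := by
  obtain ⟨z, -, -⟩ := Scheme.Pullback.exists_preimage_pullback (f := a) (g := FinFr.specι k K)
    (Classical.arbitrary U₀) (Classical.arbitrary _) (Subsingleton.elim _ _)
  exact ⟨z⟩

/-- The map `π⁻¹ j_! (i_! i⁻¹ F → F)` is surjective on `H^{2d}` if `X = X₀ ⊗ K` is irreducible of dimension
`≤ d` and `U₀` is a nonempty open subscheme. -/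
theorem surjective_open {k : Type u} [Field k] {K : Type u} [Field K] [Algebra k K] [IsSepClosed K]
    {X₀ P₀ U₀ : Scheme.{u}} (j : X₀ ⟶ P₀) [IsOpenImmersion j] (i : U₀ ⟶ X₀) [IsOpenImmersion i]
    (b : P₀ ⟶ Spec (CommRingCat.of k)) [LocallyOfFiniteType b] [QuasiCompact b] [QuasiCompact j]
    (a : X₀ ⟶ Spec (CommRingCat.of k)) (w : j ≫ b = a) [Nonempty U₀]
    [IrreducibleSpace ↥(FinFr.ext K a)] (d : ℕ)
    (hd : topologicalKrullDim ↥(FinFr.ext K a) ≤ d) (m : ℕ) (hm : 0 < m) (F : EtCoh.Ab X₀)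
    (hF : EtCoh.KilledBy m F) :
    Function.Surjective (Groth.Agent.Etrest.HPost.post ((EtCoh.pull (FinFr.extπ K b)).map
      ((EtShriek.extZero j).map ((EtShriek.extZeroAdj i).counit.app F))) (2 * d)) := by
  let X := FinFr.ext K a
  let J : X ⟶ FinFr.ext K b := FinFr.extHom K a j w
  have hJ := Groth.Agent.Sga4h.H407.ExtGeom.isPullback_extHom K a j w
  have hJo : IsOpenImmersion J := Groth.Agent.Sga4h.H407.ExtGeom.isOpenImmersion_extHom K a j w
  let I : FinFr.ext K (i ≫ a) ⟶ X := FinFr.extHom K (i ≫ a) i rfl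
  have hI := Groth.Agent.Sga4h.H407.ExtGeom.isPullback_extHom K (i ≫ a) i rfl
  have hIo : IsOpenImmersion I := Groth.Agent.Sga4h.H407.ExtGeom.isOpenImmersion_extHom K (i ≫ a) i rfl
  have hne : Nonempty ↥(FinFr.ext K (i ≫ a)) := nonempty_ext K (i ≫ a)
  obtain ⟨R, c, hc, hr⟩ := Groth.Agent.Etdl.H111.StmtA3.exists_closed (Set.range I)ᶜ
    I.isOpenEmbedding.isOpen_range.isClosed_compl
  have hcne : Set.range c ≠ Set.univ := by
    rw [hr]
    intro h
    obtain ⟨x⟩ := hne
    have : I x ∈ (Set.range I)ᶜ := by rw [h]; trivial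
    exact this ⟨x, rfl⟩
  have hlf : LocallyOfFiniteType (FinFr.extStr K b) := inferInstance
  have hqc : QuasiCompact (FinFr.extStr K b) := inferInstance
  have hmono : Mono ((EtCoh.pull (FinFr.extπ K b)).map
      ((EtShriek.extZero j).map ((EtShriek.extZeroAdj i).counit.app F))) := by
    rw [mono_iff_stalks]
    intro Ω _ _ ξ
    by_cases h : (ξ ≫ FinFr.extπ K b) default ∈ j '' (Set.range i)ᶜ
    · have h3 := (K819.HcTwo.isZero_stalk_main j i ((EtShriek.restrAlong i).obj F)
        (ξ ≫ FinFr.extπ K b) h).of_iso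
        ((Groth.Agent.Etbase.StalkPull.stalkPullIso (FinFr.extπ K b) ξ).app _).symm
      intro x y _
      have h4 := AddCommGrpCat.subsingleton_of_isZero h3
      exact h4.elim _ _
    · have h1 := (NatIso.isIso_map_iff (Groth.Agent.Etbase.StalkPull.stalkPullIso (FinFr.extπ K b) ξ)
        _).1 (K819.HcTwo.isIso_stalk_main j i F (ξ ≫ FinFr.extπ K b) h)
      exact ((ConcreteCategory.isIso_iff_bijective _).1 h1).1
  have hB : EtCoh.KilledBy m ((EtCoh.pull (FinFr.extπ K b)).obj
      ((EtShriek.extZero j).obj F)) :=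
    Groth.Agent.Sga4B.ShriekTools.killedBy_pull _ _ _
      (Groth.Agent.Sga4B.ShriekTools.killedBy_extZero _ _ _ hF)
  have hst : ∀ (Ω : Type u) [Field Ω] [IsSepClosed Ω] (ξ : Spec (CommRingCat.of Ω) ⟶ FinFr.ext K b),
      ξ default ∉ Set.range (c ≫ J) → IsIso ((EtCoh.stalk ξ).map ((EtCoh.pull (FinFr.extπ K b)).map
      ((EtShriek.extZero j).map ((EtShriek.extZeroAdj i).counit.app F)))) := by
    intro Ω _ _ ξ hξ
    refine (NatIso.isIso_map_iff (Groth.Agent.Etbase.StalkPull.stalkPullIso (FinFr.extπ K b) ξ) _).1 ?_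
    refine K819.HcTwo.isIso_stalk_main j i F (ξ ≫ FinFr.extπ K b) ?_
    rw [Scheme.Hom.comp_apply]
    rintro ⟨x, hx, hx'⟩
    obtain ⟨x', h1, h2⟩ := Scheme.exists_preimage_of_isPullback hJ _ _ hx'.symm
    have h3 : x' ∈ Set.range c := by
      rw [hr]
      rintro ⟨y, rfl⟩
      refine hx ⟨FinFr.extπ K (i ≫ a) y, ?_⟩
      rw [← h2, ← Scheme.Hom.comp_apply, ← hI.w, Scheme.Hom.comp_apply]
    obtain ⟨r, rfl⟩ := h3
    refine hξ ⟨r, ?_⟩
    rw [Scheme.Hom.comp_apply]
    exact h1
  cases d with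
  | zero =>
    have hR := Groth.Agent.Etdl.H111.ClosDim.isEmpty_of_closed c hcne hd
    have : IsIso ((EtCoh.pull (FinFr.extπ K b)).map
      ((EtShriek.extZero j).map ((EtShriek.extZeroAdj i).counit.app F))) := by
      rw [isIso_iff_stalks]
      intro Ω _ _ ξ
      refine hst Ω ξ ?_
      rintro ⟨r, -⟩
      exact hR.false r
    exact (post_bijective _ _).2
  | succ d =>
    have hd' := Groth.Agent.Etdl.H111.ClosDim.topologicalKrullDim_le_of_closed c hcne d hd
    have hlX : LocallyOfFiniteType (FinFr.extStr K a) := by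
      rw [← Groth.Agent.Sga4h.H407.ExtGeom.extHom_snd K a j w]
      infer_instance
    have hqX : QuasiCompact (FinFr.extStr K a) := by
      have hjq : QuasiCompact (FinFr.extHom K a j w) :=
        MorphismProperty.of_isPullback (P := @QuasiCompact) hJ.flip inferInstance
      rw [← Groth.Agent.Sga4h.H407.ExtGeom.extHom_snd K a j w]
      infer_instance
    have hnX : IsLocallyNoetherian X := LocallyOfFiniteType.isLocallyNoetherian (FinFr.extStr K a)
    have hcX : CompactSpace X := QuasiCompact.compactSpace_of_compactSpace (FinFr.extStr K a)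
    have hnoeX : IsNoetherian X := ⟨⟩
    have hnR : NoetherianSpace R := c.isClosedEmbedding.isEmbedding.isInducing.noetherianSpace
    exact post_surjective_of_mono (FinFr.extStr K b) (c ≫ J) d hd' _ m hm hB hst _ (by omega)

end K42.FinFr
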