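import Groth.Agent.FinFr.K42.Perm
import Groth.Agent.FinFr.K42.OpenSurj
import Groth.Agent.FinFr.K42.Conn
import Groth.Agent.Sga3C.LocConn
import Groth.Agent.Sga4h.H616.TrConst

/-!
# The geometrically disconnected case
-/

set_option autoImplicit false
universe u
open CategoryTheory CategoryTheory.Limits AlgebraicGeometry Opposite Topology TopologicalSpace

namespace K42.FinFr

section gal

variable {k : Type u} [Field k] {K : Type u} [Field K] [Algebra k K] {X₀ : Scheme.{u}}
  [X₀.Over (Spec (CommRingCat.of k))]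

theorem galAct_eq (σ : K ≃ₐ[k] K) :
    Curv2.galAct k X₀ K σ = FinFr.galAct (X₀ ↘ Spec (CommRingCat.of k)) σ := by
  apply pullback.hom_ext
  · exact (Groth.Agent.VarietyB.BaseExt3.galAct_fst k X₀ K σ).trans
      (FinFr.galAct_fst (X₀ ↘ Spec (CommRingCat.of k)) σ).symm
  · exact (Groth.Agent.VarietyB.BaseExt3.galAct_snd k X₀ K σ).trans
      (FinFr.galAct_snd (X₀ ↘ Spec (CommRingCat.of k)) σ).symm

end gal

variable {k : Type u} [Field k] [Fintype k] {K : Type u} [Field K] [Algebra k K]
  [IsAlgClosed K] [Algebra.IsAlgebraic k K]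

theorem isGalois : IsGalois k K := by
  have : IsAlgClosure k K := ⟨inferInstance, inferInstance⟩
  have h1 : Normal k K := IsAlgClosure.normal k K
  have h2 : Algebra.IsSeparable k K := Algebra.IsAlgebraic.isSeparable_of_perfectField
  exact ⟨⟩

/-- A rational point makes `X₀ ⊗ K` connected. -/
theorem connectedSpace_of_ratPt {X₀ : Scheme.{u}} (a : X₀ ⟶ Spec (CommRingCat.of k))
    [ConnectedSpace X₀] (x : FinFr.RatPt a) : ConnectedSpace ↥(FinFr.ext K a) := by
  let : X₀.Over (Spec (CommRingCat.of k)) := ⟨a⟩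
  let : (Spec (CommRingCat.of k)).Over (Spec (CommRingCat.of k)) := ⟨𝟙 _⟩
  have hx : x.1.IsOver (Spec (CommRingCat.of k)) := ⟨x.2⟩
  have := isGalois (k := k) (K := K)
  have hc : ConnectedSpace ↥(Curv2.bc k (Spec (CommRingCat.of k)) K) :=
    inferInstanceAs (ConnectedSpace (FinFr.ext K (𝟙 (Spec (CommRingCat.of k)))))
  exact K418.GalTop.connectedSpace_of_galois k (T := Spec (CommRingCat.of k)) (X := X₀) x.1 K

omit [Fintype k] [IsAlgClosed K] [Algebra.IsAlgebraic k K] in
theorem galAct_comp_symm {X₀ : Scheme.{u}} (a : X₀ ⟶ Spec (CommRingCat.of k)) (σ : K ≃ₐ[k] K) :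
    FinFr.galAct a σ ≫ FinFr.galAct a σ.symm = 𝟙 _ := by
  let : X₀.Over (Spec (CommRingCat.of k)) := ⟨a⟩
  have h := Groth.Agent.S7621.galAct_comp k K X₀ σ
  rw [galAct_eq, galAct_eq] at h
  exact h

omit [Fintype k] [IsAlgClosed K] [Algebra.IsAlgebraic k K] in
/-- The Galois action by homeomorphisms. -/
noncomputable def galHomeo {X₀ : Scheme.{u}} (a : X₀ ⟶ Spec (CommRingCat.of k)) (σ : K ≃ₐ[k] K) :
    ↥(FinFr.ext K a) ≃ₜ ↥(FinFr.ext K a) where
  toFun := FinFr.galAct a σ
  invFun := FinFr.galAct a σ.symm
  left_inv x := by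
    have h := K42.FinFr.galAct_comp_symm a σ
    rw [← Scheme.Hom.comp_apply, h]
    rfl
  right_inv x := by
    have h := K42.FinFr.galAct_comp_symm a σ.symm
    rw [AlgEquiv.symm_symm] at h
    rw [← Scheme.Hom.comp_apply, h]
    rfl
  continuous_toFun := (FinFr.galAct a σ).continuous
  continuous_invFun := (FinFr.galAct a σ.symm).continuous

/-- A nonempty clopen subset stable under Frobenius is everything. -/
theorem eq_univ_of_stable {X₀ : Scheme.{u}} (a : X₀ ⟶ Spec (CommRingCat.of k)) [QuasiCompact a]
    [ConnectedSpace X₀] (C : Set ↥(FinFr.ext K a)) (hC : IsClopen C) (hne : C.Nonempty)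
    (hinv : FinFr.galAct a (FinFr.arith k K) '' C = C) : C = Set.univ := by
  let : X₀.Over (Spec (CommRingCat.of k)) := ⟨a⟩
  have := isGalois (k := k) (K := K)
  have hq : QuasiCompact (FinFr.extStr K a) := MorphismProperty.pullback_snd _ _ ‹QuasiCompact a›
  have hc' : CompactSpace ↥(FinFr.ext K a) :=
    QuasiCompact.compactSpace_of_compactSpace (FinFr.extStr K a)
  have hc : CompactSpace ↥(Curv2.bc k X₀ K) := hc'
  refine clopen_aux (k := k) (K := K) (X := X₀) C hC ?_ hne
  rw [galAct_eq]
  exact hinv

end K42.FinFr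

namespace K42.Frob

open K42.FinFr

/-- In the geometrically disconnected case there are no rational points. -/
theorem isEmpty_ratPt_of_disc {k : Type u} [Field k] [Fintype k] (K : Type u) [Field K] [Algebra k K]
    [IsAlgClosed K] [Algebra.IsAlgebraic k K] {X₀ : Scheme.{u}} (a : X₀ ⟶ Spec (CommRingCat.of k))
    [ConnectedSpace X₀] (hd : ¬ ConnectedSpace ↥(FinFr.ext K a)) : IsEmpty (FinFr.RatPt a) :=
  ⟨fun x => hd (connectedSpace_of_ratPt a x)⟩

variable {k : Type u} [Field k] [Fintype k] {K : Type u} [Field K] [Algebra k K]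
  [IsAlgClosed K] [Algebra.IsAlgebraic k K] [Fact FinFr.PullExact.{u}]

/-- **The geometrically disconnected case**: all traces vanish. -/
theorem trace_eq_zero_of_disc {X₀ : Scheme.{u}} (a : X₀ ⟶ Spec (CommRingCat.of k)) [QuasiCompact a]
    [LocallyOfFiniteType a] [ConnectedSpace X₀] (hd : ¬ ConnectedSpace ↥(FinFr.ext K a))
    {Λ : Type} [CommRing Λ] (L : EtLam.Sheaf Λ X₀) (n : ℕ) :
    LinearMap.trace Λ _ (FinFr.galLin a (FinFr.arith k K) L n) = 0 := by
  have hne : Nonempty ↥(FinFr.ext K a) := nonempty_ext K a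
  have hq : QuasiCompact (FinFr.extStr K a) := MorphismProperty.pullback_snd _ _ ‹QuasiCompact a›
  have hl : LocallyOfFiniteType (FinFr.extStr K a) :=
    MorphismProperty.pullback_snd _ _ ‹LocallyOfFiniteType a›
  have h1 : IsLocallyNoetherian (FinFr.ext K a) :=
    LocallyOfFiniteType.isLocallyNoetherian (FinFr.extStr K a)
  have h2 : CompactSpace ↥(FinFr.ext K a) :=
    QuasiCompact.compactSpace_of_compactSpace (FinFr.extStr K a)
  have h3 : LocallyConnectedSpace ↥(FinFr.ext K a) :=
    Groth.Agent.Sga3C.LocConn.locallyConnectedSpace_of_isLocallyNoetherian _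
  have hfin : Finite (_root_.ConnectedComponents ↥(FinFr.ext K a)) := inferInstance
  have := Fintype.ofFinite (_root_.ConnectedComponents ↥(FinFr.ext K a))
  let f : ↥(FinFr.ext K a) ≃ₜ ↥(FinFr.ext K a) := galHomeo a (FinFr.arith k K)
  have hf : ∀ x, f x = FinFr.galAct a (FinFr.arith k K) x := fun x => rfl
  let s : Equiv.Perm (_root_.ConnectedComponents ↥(FinFr.ext K a)) :=
    { toFun := f.continuous.connectedComponentsMap
      invFun := f.symm.continuous.connectedComponentsMap
      left_inv := by
        intro x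
        obtain ⟨x, rfl⟩ := ConnectedComponents.surjective_coe x
        change ((f.symm (f x) : ↥(FinFr.ext K a)) : _root_.ConnectedComponents ↥(FinFr.ext K a)) = x
        rw [f.symm_apply_apply]
      right_inv := by
        intro x
        obtain ⟨x, rfl⟩ := ConnectedComponents.surjective_coe x
        change ((f (f.symm x) : ↥(FinFr.ext K a)) : _root_.ConnectedComponents ↥(FinFr.ext K a)) = x
        rw [f.apply_symm_apply] }
  refine trace_eq_zero_of_perm a (FinFr.arith k K) L n
    (fun x => (x : _root_.ConnectedComponents ↥(FinFr.ext K a))) (fun i => ?_) s (fun x => ?_) fun i hi => ?_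
  · exact (isClopen_discrete _).preimage ConnectedComponents.continuous_coe
  · rfl
  · apply hd
    let C : Set ↥(FinFr.ext K a) := (fun x => (x : _root_.ConnectedComponents ↥(FinFr.ext K a))) ⁻¹' {i}
    have hC : IsClopen C := (isClopen_discrete _).preimage ConnectedComponents.continuous_coe
    have hCne : C.Nonempty := by
      obtain ⟨x, rfl⟩ := ConnectedComponents.surjective_coe i
      exact ⟨x, rfl⟩
    have hpre : f ⁻¹' C = C := by
      ext y
      change (f y : _root_.ConnectedComponents ↥(FinFr.ext K a)) = i ↔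
        (y : _root_.ConnectedComponents ↥(FinFr.ext K a)) = i
      have h5 : (f y : _root_.ConnectedComponents ↥(FinFr.ext K a)) =
        s (y : _root_.ConnectedComponents ↥(FinFr.ext K a)) := rfl
      rw [h5]
      constructor
      · intro h6
        exact s.injective (h6.trans hi.symm)
      · intro h6
        rw [h6, hi]
    have hinv : FinFr.galAct a (FinFr.arith k K) '' C = C := by
      change f '' C = C
      conv_lhs => rw [← hpre]
      exact Set.image_preimage_eq _ f.surjective
    have h4 := eq_univ_of_stable a C hC hCne hinv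
    have h5 : Subsingleton (_root_.ConnectedComponents ↥(FinFr.ext K a)) := by
      constructor
      intro y z
      obtain ⟨y, rfl⟩ := ConnectedComponents.surjective_coe y
      obtain ⟨z, rfl⟩ := ConnectedComponents.surjective_coe z
      have hy : y ∈ C := by rw [h4]; trivial
      have hz : z ∈ C := by rw [h4]; trivial
      exact hy.trans hz.symm
    rw [connectedSpace_iff_connectedComponent]
    refine ⟨Classical.arbitrary _, Set.eq_univ_of_forall fun y => ?_⟩
    have h6 : (y : _root_.ConnectedComponents ↥(FinFr.ext K a)) =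
      (Classical.arbitrary ↥(FinFr.ext K a) : ↥(FinFr.ext K a)) := Subsingleton.elim _ _
    rw [← ConnectedComponents.coe_eq_coe.1 h6]
    exact mem_connectedComponent

end K42.Frob
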