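import Groth.Prelude.Def_FinFr
import Groth.Agent.Sga4h.H513.LocEdge
import Groth.Agent.Sga4h.H407.IC
import Groth.Agent.Etrest.HpullAcyc
import Groth.Agent.S0071
import Groth.Agent.S0621

/-!
# Scalars of Frobenius on cohomology groups

`Eg b σ G n c`: transport of structure by `σ` is multiplication by `c` on `H^n(P ⊗ K, π⁻¹ G)`.
Behaviour under maps of sheaves and direct images along finite morphisms.
-/

set_option autoImplicit false
universe u
open CategoryTheory CategoryTheory.Limits AlgebraicGeometry Opposite CategoryTheory.Abelian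

namespace K42.FinFr

open Groth.Agent.Etcore.PullCoh Groth.Agent.Sga4B.ExtCmp Groth.Agent.EtpbcB.HRel
  Groth.Agent.Etrest.HPost Groth.Agent.Sga4B.HpullSquare Groth.Agent.Sga4h.H513.LocEdge

variable {k : Type u} [Field k] {K : Type u} [Field K] [Algebra k K] [Fact FinFr.PullExact.{u}]

/-- Transport of structure by `σ` is multiplication by `c` on `H^n(P ⊗ K, π⁻¹ G)`. -/
def Eg {P : Scheme.{u}} (b : P ⟶ Spec (CommRingCat.of k)) (σ : K ≃ₐ[k] K) (G : EtCoh.Ab P)
    (n c : ℕ) : Prop :=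
  ∀ x : EtCoh.H (FinFr.ext K b) ((EtCoh.pull (FinFr.extπ K b)).obj G) n,
    FinFr.galH b σ G n x = c • x

section maps

variable {P : Scheme.{u}} (b : P ⟶ Spec (CommRingCat.of k)) (σ : K ≃ₐ[k] K) {G G' : EtCoh.Ab P}

theorem galH_post (a : G ⟶ G') (n : ℕ)
    (x : EtCoh.H (FinFr.ext K b) ((EtCoh.pull (FinFr.extπ K b)).obj G) n) :
    FinFr.galH b σ G' n (post ((EtCoh.pull (FinFr.extπ K b)).map a) n x) =
      post ((EtCoh.pull (FinFr.extπ K b)).map a) n (FinFr.galH b σ G n x) :=
  HpullVia_post _ _ _ _ a n x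

variable {b σ}

theorem Eg.of_surj (a : G ⟶ G') {n c : ℕ}
    (ha : Function.Surjective (post ((EtCoh.pull (FinFr.extπ K b)).map a) n))
    (h : Eg b σ G n c) : Eg b σ G' n c := by
  intro y
  obtain ⟨x, rfl⟩ := ha y
  rw [galH_post, h x, map_nsmul]

theorem Eg.of_inj (a : G ⟶ G') {n c : ℕ}
    (ha : Function.Injective (post ((EtCoh.pull (FinFr.extπ K b)).map a) n))
    (h : Eg b σ G' n c) : Eg b σ G n c := by
  intro x
  apply ha
  rw [← galH_post, h, map_nsmul]

end maps

end K42.FinFr
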