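import Groth.Agent.FinFr.K42.Supp

/-!
# Idempotents of clopen subsets acting on sheaves and on cohomology
-/

set_option autoImplicit false
universe u
open CategoryTheory CategoryTheory.Limits AlgebraicGeometry Opposite CategoryTheory.Abelian Topology
  TopologicalSpace

namespace K42.FinFr

open Groth.Agent.Etcore Groth.Agent.Etcore.ShriekUnique Groth.Agent.Etcore.OpenClosed
  Groth.Agent.Etcore.Stalks Groth.Agent.Etcore.ShriekBasic

variable {X : Scheme.{u}}

theorem hom_ext_stalks {F G : EtCoh.Ab X} (a b : F ⟶ G)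
    (h : ∀ (Ω : Type u) [Field Ω] [IsSepClosed Ω] (ξ : Spec (CommRingCat.of Ω) ⟶ X),
      (EtCoh.stalk ξ).map a = (EtCoh.stalk ξ).map b) : a = b := by
  apply Sheaf.hom_ext
  ext U s
  refine sect_ext _ _ fun x => ?_
  obtain ⟨Ω, i1, i2, ξ, hξ⟩ := exists_geom x
  refine ⟨Ω, i1, i2, ξ, hξ, fun u => ?_⟩
  have h1 := ConcreteCategory.congr_hom (h Ω ξ) (germ ξ F u s)
  exact (germ_map ξ a u s).symm.trans (h1.trans (germ_map ξ b u s))

/-- `e` is the idempotent of the clopen subset `U` acting on `F`. -/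
def IsIdem (U : Set X) (F : EtCoh.Ab X) (e : F ⟶ F) : Prop :=
  ∀ (Ω : Type u) [Field Ω] [IsSepClosed Ω] (ξ : Spec (CommRingCat.of Ω) ⟶ X),
    (ξ default ∈ U → (EtCoh.stalk ξ).map e = 𝟙 _) ∧ (ξ default ∉ U → (EtCoh.stalk ξ).map e = 0)

theorem exists_isIdem (U : Set X) (hU : IsClopen U) (F : EtCoh.Ab X) : ∃ e : F ⟶ F, IsIdem U F e := by
  let O : X.Opens := ⟨U, hU.isOpen⟩
  let j := O.ι
  have hr : Set.range j = U := by
    rw [Scheme.Opens.range_ι]
    rfl
  have hj : IsClosedImmersion j := IsClosedImmersion.of_isPreimmersion j (by rw [hr]; exact hU.isClosed)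
  let O' : X.Opens := ⟨Uᶜ, hU.compl.isOpen⟩
  have hr' : Set.range O'.ι = Uᶜ := by
    rw [Scheme.Opens.range_ι]
    rfl
  let c := (EtShriek.extZeroAdj j).counit.app F
  let v := (EtCoh.pullPushAdj j).unit.app F
  have hz1 : ∀ (Ω : Type u) [Field Ω] [IsSepClosed Ω] (ξ : Spec (CommRingCat.of Ω) ⟶ X),
      ξ default ∉ U → IsZero ((EtCoh.stalk ξ).obj ((EtShriek.extZero j).obj
        ((EtShriek.restrAlong j).obj F))) := fun Ω _ _ ξ hξ =>
    isZero_stalk_extZero' j ξ (by rw [hr]; exact hξ) _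
  have hi : IsIso (c ≫ v) := by
    rw [isIso_iff_stalks]
    intro Ω _ _ ξ
    by_cases hξ : ξ default ∈ U
    · have h1 : IsIso ((EtCoh.stalk ξ).map c) := isIso_stalk_counit j ξ (by rw [hr]; exact hξ) F
      have h2 : IsIso ((EtCoh.stalk ξ).map v) := isIso_stalk_unit j ξ (by rw [hr]; exact hξ) F
      rw [Functor.map_comp]
      infer_instance
    · refine (hz1 Ω ξ hξ).isIso ?_ _
      refine isZero_stalk_push j O'.ι ?_ ξ ?_ _
      · rw [hr, hr']
        exact disjoint_compl_right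
      · rw [hr']
        exact hξ
  refine ⟨v ≫ inv (c ≫ v) ≫ c, fun Ω _ _ ξ => ⟨fun hξ => ?_, fun hξ => ?_⟩⟩
  · have h1 : IsIso ((EtCoh.stalk ξ).map c) := isIso_stalk_counit j ξ (by rw [hr]; exact hξ) F
    rw [← cancel_epi ((EtCoh.stalk ξ).map c), ← Functor.map_comp, ← Category.assoc,
      IsIso.hom_inv_id_assoc]
    exact (Category.comp_id _).symm
  · rw [Functor.map_comp, Functor.map_comp, (hz1 Ω ξ hξ).eq_zero_of_src ((EtCoh.stalk ξ).map c),
      comp_zero, comp_zero]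

theorem IsIdem.natural {U : Set X} {F G : EtCoh.Ab X} {e : F ⟶ F} {e' : G ⟶ G} (h : IsIdem U F e)
    (h' : IsIdem U G e') (a : F ⟶ G) : e ≫ a = a ≫ e' := by
  refine hom_ext_stalks _ _ fun Ω _ _ ξ => ?_
  rw [Functor.map_comp, Functor.map_comp]
  by_cases hx : ξ default ∈ U
  · rw [(h Ω ξ).1 hx, (h' Ω ξ).1 hx, Category.id_comp, Category.comp_id]
  · rw [(h Ω ξ).2 hx, (h' Ω ξ).2 hx, zero_comp, comp_zero]

theorem IsIdem.comp_eq_zero {U V : Set X} {F : EtCoh.Ab X} {e e' : F ⟶ F} (h : IsIdem U F e)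
    (h' : IsIdem V F e') (hd : Disjoint U V) : e ≫ e' = 0 := by
  refine hom_ext_stalks _ _ fun Ω _ _ ξ => ?_
  rw [Functor.map_comp, Functor.map_zero]
  by_cases hx : ξ default ∈ U
  · rw [(h' Ω ξ).2 (Set.disjoint_left.1 hd hx), comp_zero]
  · rw [(h Ω ξ).2 hx, zero_comp]

theorem IsIdem.unique {U : Set X} {F : EtCoh.Ab X} {e e' : F ⟶ F} (h : IsIdem U F e)
    (h' : IsIdem U F e') : e = e' := by
  have := h.natural h' (𝟙 F)
  rwa [Category.id_comp, Category.comp_id] at this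

theorem IsIdem.comp_self {U : Set X} {F : EtCoh.Ab X} {e : F ⟶ F} (h : IsIdem U F e) :
    e ≫ e = e := by
  refine hom_ext_stalks _ _ fun Ω _ _ ξ => ?_
  rw [Functor.map_comp]
  by_cases hx : ξ default ∈ U
  · rw [(h Ω ξ).1 hx, Category.comp_id]
  · rw [(h Ω ξ).2 hx, zero_comp]

theorem IsIdem.pull {Y : Scheme.{u}} (f : Y ⟶ X) {U : Set X} {F : EtCoh.Ab X} {e : F ⟶ F}
    (h : IsIdem U F e) : IsIdem (f ⁻¹' U) ((EtCoh.pull f).obj F) ((EtCoh.pull f).map e) := by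
  intro Ω _ _ ξ
  have h1 := (Groth.Agent.Etbase.StalkPull.stalkPullIso f ξ).hom.naturality e
  have h2 : (ξ ≫ f) default = f (ξ default) := by rw [Scheme.Hom.comp_apply]
  refine ⟨fun hξ => ?_, fun hξ => ?_⟩
  · rw [(h Ω (ξ ≫ f)).1 (by rw [h2]; exact hξ), Category.id_comp] at h1
    have h3 := (cancel_epi ((Groth.Agent.Etbase.StalkPull.stalkPullIso f ξ).hom.app F)).1
      ((Category.comp_id _).trans h1)
    exact h3.symm
  · rw [(h Ω (ξ ≫ f)).2 (by rw [h2]; exact hξ), zero_comp] at h1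
    have h3 := (cancel_epi ((Groth.Agent.Etbase.StalkPull.stalkPullIso f ξ).hom.app F)).1
      (comp_zero.trans h1)
    exact h3.symm

theorem sum_isIdem {ι : Type*} [Fintype ι] (c : X → ι) {F : EtCoh.Ab X} (e : ι → (F ⟶ F))
    (h : ∀ i, IsIdem (c ⁻¹' {i}) F (e i)) : ∑ i, e i = 𝟙 F := by
  refine hom_ext_stalks _ _ fun Ω _ _ ξ => ?_
  rw [Functor.map_sum, CategoryTheory.Functor.map_id, Finset.sum_eq_single (c (ξ default))]
  · exact (h _ Ω ξ).1 rfl
  · intro i _ hi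
    exact (h _ Ω ξ).2 fun h => hi h.symm
  · intro h
    exact absurd (Finset.mem_univ _) h

end K42.FinFr
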