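import Groth.Agent.FinFr.K42.Idem

/-!
# Trace zero for an automorphism permuting the pieces of a clopen decomposition without fixed piece
-/

set_option autoImplicit false
universe u
open CategoryTheory CategoryTheory.Limits AlgebraicGeometry Opposite CategoryTheory.Abelian Topology
  TopologicalSpace

namespace K42.FinFr

section
variable {k : Type u} [Field k] {K : Type u} [Field K] [Algebra k K] [Fact FinFr.PullExact.{u}]
  {X₀ : Scheme.{u}} (a : X₀ ⟶ Spec (CommRingCat.of k)) (σ : K ≃ₐ[k] K)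

theorem galH_idem (G : EtCoh.Ab X₀) (n : ℕ) {U : Set ↥(FinFr.ext K a)}
    {e e' : (EtCoh.pull (FinFr.extπ K a)).obj G ⟶ (EtCoh.pull (FinFr.extπ K a)).obj G}
    (he : IsIdem U _ e) (he' : IsIdem (FinFr.galAct a σ ⁻¹' U) _ e')
    (x : EtCoh.H (FinFr.ext K a) ((EtCoh.pull (FinFr.extπ K a)).obj G) n) :
    FinFr.galH a σ G n (Sheaf.H.map e n x) = Sheaf.H.map e' n (FinFr.galH a σ G n x) := by
  have := FinFr.pullExact_out (FinFr.galAct a σ)
  let β := ((EtCore.pullComp (FinFr.galAct a σ) (FinFr.extπ K a)).symm ≪≫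
    EtCore.pullCongr (FinFr.galAct_fst a σ)).hom.app G
  change Sheaf.H.map β n (EtCore.Hpull (FinFr.galAct a σ) _ n (Sheaf.H.map e n x)) =
    Sheaf.H.map e' n (Sheaf.H.map β n (EtCore.Hpull (FinFr.galAct a σ) _ n x))
  rw [EtCore.Hpull_natural, ← Sheaf.H.map_comp_apply, ← Sheaf.H.map_comp_apply,
    (he.pull (FinFr.galAct a σ)).natural he' β]

/-- `f ↦ H^n(f)(x)` as an additive map. -/
noncomputable def evalH {X : Scheme.{u}} {F G : EtCoh.Ab X} (n : ℕ) (x : EtCoh.H X F n) :
    (F ⟶ G) →+ EtCoh.H X G n where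
  toFun f := Sheaf.H.map f n x
  map_zero' := by
    change ((CategoryTheory.Sheaf.functorH _ n).map (0 : F ⟶ G)).hom x = 0
    rw [Functor.map_zero]
    rfl
  map_add' f g := Sheaf.H.map_add_apply _ _ _

/-- An idempotent as a linear map. -/
noncomputable def idemLin {X : Scheme.{u}} {Λ : Type} [CommRing Λ] (L : EtLam.Sheaf Λ X) (n : ℕ)
    {U : Set X} {e : L.carrier ⟶ L.carrier} (he : IsIdem U _ e) :
    EtCoh.H X L.carrier n →ₗ[Λ] EtCoh.H X L.carrier n where
  toFun := Sheaf.H.map e n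
  map_add' x y := map_add _ x y
  map_smul' r x := by
    change Sheaf.H.map e n (Sheaf.H.map (L.act r) n x) = Sheaf.H.map (L.act r) n (Sheaf.H.map e n x)
    rw [← Sheaf.H.map_comp_apply, ← Sheaf.H.map_comp_apply, he.natural he (L.act r)]

omit [Fact FinFr.PullExact.{u}] in
theorem idemLin_apply {X : Scheme.{u}} {Λ : Type} [CommRing Λ] (L : EtLam.Sheaf Λ X) (n : ℕ)
    {U : Set X} {e : L.carrier ⟶ L.carrier} (he : IsIdem U _ e) (x : EtCoh.H X L.carrier n) :
    idemLin L n he x = Sheaf.H.map e n x := rfl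

omit [Fact FinFr.PullExact.{u}] in
theorem idemLin_mul_self {X : Scheme.{u}} {Λ : Type} [CommRing Λ] (L : EtLam.Sheaf Λ X) (n : ℕ)
    {U : Set X} {e : L.carrier ⟶ L.carrier} (he : IsIdem U _ e) :
    idemLin L n he * idemLin L n he = idemLin L n he := by
  apply LinearMap.ext
  intro x
  rw [Module.End.mul_apply, idemLin_apply, idemLin_apply, ← Sheaf.H.map_comp_apply, he.comp_self]

omit [Fact FinFr.PullExact.{u}] in
theorem idemLin_mul_eq_zero {X : Scheme.{u}} {Λ : Type} [CommRing Λ] (L : EtLam.Sheaf Λ X) (n : ℕ)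
    {U V : Set X} {e e' : L.carrier ⟶ L.carrier} (he : IsIdem U _ e) (he' : IsIdem V _ e')
    (hd : Disjoint V U) : idemLin L n he * idemLin L n he' = 0 := by
  apply LinearMap.ext
  intro x
  rw [Module.End.mul_apply, idemLin_apply, idemLin_apply, ← Sheaf.H.map_comp_apply,
    he'.comp_eq_zero he hd, LinearMap.zero_apply]
  exact map_zero (evalH n x)

omit [Fact FinFr.PullExact.{u}] in
theorem sum_idemLin {X : Scheme.{u}} {Λ : Type} [CommRing Λ] (L : EtLam.Sheaf Λ X) (n : ℕ)
    {ι : Type*} [Fintype ι] (c : X → ι) (e : ι → (L.carrier ⟶ L.carrier))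
    (he : ∀ i, IsIdem (c ⁻¹' {i}) _ (e i)) : ∑ i, idemLin L n (he i) = 1 := by
  apply LinearMap.ext
  intro x
  rw [LinearMap.sum_apply, Module.End.one_apply]
  have h1 := map_sum (evalH n x) e Finset.univ
  rw [sum_isIdem c e he] at h1
  exact h1.symm.trans (Sheaf.H.map_id_apply _)

omit [Fact FinFr.PullExact.{u}] in
theorem trace_zero_abs {R M : Type*} [CommRing R] [AddCommGroup M] [Module R M] {ι : Type*}
    [Fintype ι] (E : ι → Module.End R M) (φ : Module.End R M) (s : Equiv.Perm ι)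
    (hfix : ∀ i, s i ≠ i) (hsum : ∑ i, E i = 1) (hself : ∀ i, E i * E i = E i)
    (horth : ∀ i j, i ≠ j → E i * E j = 0) (hcomm : ∀ i, φ * E (s i) = E i * φ) :
    LinearMap.trace R M φ = 0 := by
  have h3 : ∀ i, LinearMap.trace R M (E i * φ) = 0 := by
    intro i
    obtain ⟨j, rfl⟩ := s.surjective i
    have h4 : LinearMap.trace R M (E (s j) * φ) =
        LinearMap.trace R M (E (s j) * (φ * E (s j))) :=
      calc LinearMap.trace R M (E (s j) * φ) = LinearMap.trace R M ((E (s j) * E (s j)) * φ) := by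
            rw [hself]
        _ = LinearMap.trace R M (E (s j) * (E (s j) * φ)) := by rw [mul_assoc]
        _ = LinearMap.trace R M ((E (s j) * φ) * E (s j)) := LinearMap.trace_mul_comm _ _ _
        _ = LinearMap.trace R M (E (s j) * (φ * E (s j))) := by rw [mul_assoc]
    rw [h4, hcomm, ← mul_assoc, horth _ _ (hfix j), zero_mul, map_zero]
  have h5 : φ = ∑ i, E i * φ := by rw [← Finset.sum_mul, hsum, one_mul]
  rw [h5, map_sum]
  exact Finset.sum_eq_zero fun i _ => h3 i

theorem trace_eq_zero_of_perm {Λ : Type} [CommRing Λ] (L : EtLam.Sheaf Λ X₀) (n : ℕ) {ι : Type*}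
    [Fintype ι] (c : ↥(FinFr.ext K a) → ι) (hc : ∀ i, IsClopen (c ⁻¹' {i})) (s : Equiv.Perm ι)
    (hs : ∀ x, c (FinFr.galAct a σ x) = s (c x)) (hfix : ∀ i, s i ≠ i) :
    LinearMap.trace Λ _ (FinFr.galLin a σ L n) = 0 := by
  have h1 : ∀ i, ∃ e : (EtLam.pullback (FinFr.extπ K a) L).carrier ⟶
      (EtLam.pullback (FinFr.extπ K a) L).carrier, IsIdem (c ⁻¹' {i}) _ e :=
    fun i => exists_isIdem _ (hc i) _
  choose e he using h1
  refine trace_zero_abs (fun i => idemLin (EtLam.pullback (FinFr.extπ K a) L) n (he i)) _ s hfix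
    (sum_idemLin _ n c e he) (fun i => idemLin_mul_self _ n (he i)) (fun i j hij =>
      idemLin_mul_eq_zero _ n (he i) (he j) ?_) ?_
  · rw [Set.disjoint_left]
    rintro x hx hx'
    exact hij (hx'.symm.trans hx)
  · intro i
    apply LinearMap.ext
    intro x
    refine galH_idem a σ L.carrier n (he (s i)) (?_ : IsIdem _ _ (e i)) x
    have h2 : FinFr.galAct a σ ⁻¹' (c ⁻¹' {s i}) = c ⁻¹' {i} := by
      ext y
      simp [hs]
    rw [h2]
    exact he i

end

end K42.FinFr
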