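import Groth.Agent.FinFr.K42.Eg
import Groth.Agent.FinFr.K819.HcTwo
import Groth.Agent.Etdl.H111.ClosDim
import Groth.Agent.Etdl.H111.StmtA3
import Groth.Agent.EtpbcA.CdTwoDim
import Groth.Agent.Sga4B.TorsionStalks

/-!
# Vanishing above twice the dimension of the support, and surjectivity in the top degree
-/

set_option autoImplicit false
universe u
open CategoryTheory CategoryTheory.Limits AlgebraicGeometry Opposite CategoryTheory.Abelian Topology
  TopologicalSpace

namespace K42.FinFr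

open Groth.Agent.Etcore Groth.Agent.Etcore.ShriekUnique Groth.Agent.Etcore.OpenClosed
  Groth.Agent.Etcore.Stalks Groth.Agent.Etcore.ShriekBasic Groth.Agent.Sga4h.H928.ClosedMV
  Groth.Agent.Sga4h.H928.ImmVan

section supp

variable {Ω₀ : Type u} [Field Ω₀] [IsSepClosed Ω₀] {W R : Scheme.{u}}
  (p : W ⟶ Spec (CommRingCat.of Ω₀)) [LocallyOfFiniteType p] [QuasiCompact p]
  (h : R ⟶ W) [LocallyOfFiniteType h] [NoetherianSpace R] (d : ℕ) (hd : topologicalKrullDim R ≤ d)

include p hd

theorem subsingleton_H_of_supp (G : EtCoh.Ab W) (hG : EtCoh.IsTorsion G)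
    (hs : SuppIn G (Set.range h)) (n : ℕ) (hn : 2 * d < n) : Subsingleton (EtCoh.H W G n) := by
  obtain ⟨Z, z, hz, hr⟩ := Groth.Agent.Etdl.H111.StmtA3.exists_closed (closure (Set.range h))
    isClosed_closure
  have hZd := Groth.Agent.Etdl.H111.ClosDim.topologicalKrullDim_le_of_range h p d hd z hr.le
  have hcd := Groth.Agent.EtpbcA.CdTwoDim.cohDimLE_two_mul Z (z ≫ p) d hZd
  refine subsingleton_H_of_closed z G (hs.mono ?_) n ?_
  · rw [hr]
    exact subset_closure
  · exact hcd _ (Groth.Agent.Sga4B.TorsionStalks.isTorsion_pull z hG) n hn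

end supp

/-- A sheaf killed by a positive integer is torsion. -/
theorem isTorsion_of_killedBy {X : Scheme.{u}} {m : ℕ} (hm : 0 < m) {F : EtCoh.Ab X}
    (h : EtCoh.KilledBy m F) : EtCoh.IsTorsion F := fun W _ x =>
  ⟨W, 𝟙 W, ⟨x, rfl⟩, by rw [isOfFinAddOrder_iff_nsmul_eq_zero]; exact ⟨m, hm, h W _⟩⟩

theorem killedBy_of_mono {X : Scheme.{u}} {m : ℕ} {F G : EtCoh.Ab X} (a : F ⟶ G) [Mono a]
    (h : EtCoh.KilledBy m G) : EtCoh.KilledBy m F := by
  rw [Groth.Agent.Sga4B.ShriekTools.killedBy_iff] at h ⊢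
  rw [← cancel_mono a, Preadditive.nsmul_comp, Category.id_comp, zero_comp, ← Category.comp_id a,
    ← Preadditive.comp_nsmul, h, comp_zero]

theorem killedBy_of_epi {X : Scheme.{u}} {m : ℕ} {F G : EtCoh.Ab X} (a : F ⟶ G) [Epi a]
    (h : EtCoh.KilledBy m F) : EtCoh.KilledBy m G := by
  rw [Groth.Agent.Sga4B.ShriekTools.killedBy_iff] at h ⊢
  rw [← cancel_epi a, Preadditive.comp_nsmul, Category.comp_id, comp_zero, ← Category.id_comp a,
    ← Preadditive.nsmul_comp, h, zero_comp]

section top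

variable {Ω₀ : Type u} [Field Ω₀] [IsSepClosed Ω₀] {W R : Scheme.{u}}
  (p : W ⟶ Spec (CommRingCat.of Ω₀)) [LocallyOfFiniteType p] [QuasiCompact p]
  (h : R ⟶ W) [LocallyOfFiniteType h] [NoetherianSpace R] (d : ℕ) (hd : topologicalKrullDim R ≤ d)
  {A B : EtCoh.Ab W} (φ : A ⟶ B) (m : ℕ) (hm : 0 < m)

include p hd hm

/-- `A → B` injective, an isomorphism off a set of dimension `≤ d`: `H^n(A) → H^n(B)` is surjective for `n > 2d`. -/
theorem post_surjective_of_mono [Mono φ] (hB : EtCoh.KilledBy m B)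
    (h1 : ∀ (Ω : Type u) [Field Ω] [IsSepClosed Ω] (ξ : Spec (CommRingCat.of Ω) ⟶ W),
      ξ default ∉ Set.range h → IsIso ((EtCoh.stalk ξ).map φ)) (n : ℕ) (hn : 2 * d < n) :
    Function.Surjective (Groth.Agent.Etrest.HPost.post φ n) := by
  let S : ShortComplex (EtCoh.Ab W) := ShortComplex.mk φ (cokernel.π φ) (cokernel.condition φ)
  have hS : S.ShortExact :=
    { exact := ShortComplex.exact_of_g_is_cokernel _ (cokernelIsCokernel φ)
      mono_f := inferInstanceAs (Mono φ)
      epi_g := inferInstanceAs (Epi (cokernel.π φ)) }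
  have hsupp : SuppIn (cokernel φ) (Set.range h) := by
    intro Ω _ _ ξ hξ
    have h3 := h1 Ω ξ hξ
    have hz : (EtCoh.stalk ξ).map (cokernel.π φ) = 0 := by
      rw [← cancel_epi ((EtCoh.stalk ξ).map φ), ← Functor.map_comp, cokernel.condition,
        Functor.map_zero, comp_zero]
    have hepi : Epi ((EtCoh.stalk ξ).map (cokernel.π φ)) := inferInstance
    rw [hz] at hepi
    exact IsZero.of_epi_zero ((EtCoh.stalk ξ).obj B) _
  exact Groth.Agent.Sga4h.H928.Sys.post_surjective hS n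
    (subsingleton_H_of_supp p h d hd _
      (isTorsion_of_killedBy hm (killedBy_of_epi (cokernel.π φ) hB)) hsupp n hn)

/-- `A → B` surjective, an isomorphism off a set of dimension `≤ d`: `H^n(A) → H^n(B)` is surjective for `n ≥ 2d`. -/
theorem post_surjective_of_epi [Epi φ] (hA : EtCoh.KilledBy m A)
    (h1 : ∀ (Ω : Type u) [Field Ω] [IsSepClosed Ω] (ξ : Spec (CommRingCat.of Ω) ⟶ W),
      ξ default ∉ Set.range h → IsIso ((EtCoh.stalk ξ).map φ)) (n : ℕ) (hn : 2 * d ≤ n) :
    Function.Surjective (Groth.Agent.Etrest.HPost.post φ n) := by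
  let S : ShortComplex (EtCoh.Ab W) := ShortComplex.mk (kernel.ι φ) φ (kernel.condition φ)
  have hS : S.ShortExact :=
    { exact := ShortComplex.exact_of_f_is_kernel _ (kernelIsKernel φ)
      mono_f := inferInstanceAs (Mono (kernel.ι φ))
      epi_g := inferInstanceAs (Epi φ) }
  have hsupp : SuppIn (kernel φ) (Set.range h) := by
    intro Ω _ _ ξ hξ
    have h3 := h1 Ω ξ hξ
    have hz : (EtCoh.stalk ξ).map (kernel.ι φ) = 0 := by
      rw [← cancel_mono ((EtCoh.stalk ξ).map φ), ← Functor.map_comp, kernel.condition,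
        Functor.map_zero, zero_comp]
    have hmono : Mono ((EtCoh.stalk ξ).map (kernel.ι φ)) := inferInstance
    rw [hz] at hmono
    exact IsZero.of_mono_zero _ ((EtCoh.stalk ξ).obj A)
  have hvan := subsingleton_H_of_supp p h d hd _
      (isTorsion_of_killedBy hm (killedBy_of_mono (kernel.ι φ) hA)) hsupp (n + 1) (by omega)
  intro x
  exact (Groth.Agent.Etrest.HPost.exact_gd hS n x).1 (hvan.elim _ _)

end top

end K42.FinFr
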